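import Mathlib.RingTheory.Flat.Basic
import Mathlib.RingTheory.Flat.Equalizer
import Mathlib.RingTheory.Flat.Stability
import Mathlib.LinearAlgebra.TensorProduct.Quotient
import Mathlib.RingTheory.Ideal.Quotient.Basic
import Mathlib.Algebra.Module.Torsion.Basic
import Mathlib.RingTheory.LocalRing.ResidueField.Basic
import Mathlib.LinearAlgebra.Basis.VectorSpace

/-!
# Flatness descends along injective maps out of a local ring with nilpotent maximal ideal
-/

universe u
open TensorProduct IsLocalRing

namespace Groth.Agent.FlatInjDescent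

/-- a linear map that is surjective up to a nilpotent ideal is surjective -/
theorem eq_top_of_sup_smul {A M : Type u} [CommRing A] [AddCommGroup M] [Module A M]
    {I : Ideal A} (hI : IsNilpotent I) (N : Submodule A M) (h : N ⊔ I • ⊤ = ⊤) : N = ⊤ := by
  obtain ⟨n, hn⟩ := hI
  have : ∀ m : ℕ, N ⊔ I ^ m • ⊤ = ⊤ := by
    intro m
    induction m with
    | zero => simp
    | succ m ih =>
      rw [eq_top_iff]
      calc (⊤ : Submodule A M) = N ⊔ I ^ m • (N ⊔ I • ⊤) := by rw [h, ih]
        _ ≤ _ := by
          rw [Submodule.smul_sup, ← Submodule.mul_smul, ← pow_succ]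
          exact sup_le le_sup_left (sup_le (Submodule.smul_le_right.trans le_sup_left) le_sup_right)
  have := this n
  rw [hn] at this
  simpa using this

/-- a map to a flat module which is injective modulo a nilpotent ideal is injective -/
theorem ker_eq_bot_of_flat {B : Type u} [CommRing B] {F P : Type u} [AddCommGroup F] [Module B F]
    [AddCommGroup P] [Module B P] [Module.Flat B P] (I : Ideal B) (hI : IsNilpotent I)
    (φ : F →ₗ[B] P) (hs : Function.Surjective φ) (hker : LinearMap.ker φ ≤ I • ⊤) :
    LinearMap.ker φ = ⊥ := by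
  have hinj := LinearMap.lTensor_injective_of_exact_of_flat φ hs (LinearMap.ker φ).subtype
    (Submodule.injective_subtype _) (LinearMap.exact_subtype_ker_map φ) (B ⧸ I)
  have hzero : ∀ z : (B ⧸ I) ⊗[B] LinearMap.ker φ, z = 0 := by
    intro z
    apply hinj
    rw [map_zero]
    induction z using TensorProduct.induction_on with
    | zero => simp
    | add a b ha hb => rw [map_add, ha, hb, add_zero]
    | tmul q x =>
      rw [LinearMap.lTensor_tmul]
      have : ∀ y ∈ I • (⊤ : Submodule B F), q ⊗ₜ[B] y = 0 := by
        intro y hy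
        refine Submodule.smul_induction_on hy (fun a ha m _ => ?_) (fun a b ha hb => ?_)
        · rw [← TensorProduct.smul_tmul, Algebra.smul_def, Ideal.Quotient.algebraMap_eq,
            Ideal.Quotient.eq_zero_iff_mem.2 ha, zero_mul, TensorProduct.zero_tmul]
        · rw [TensorProduct.tmul_add, ha, hb, add_zero]
      exact this _ (hker x.2)
  have hK : (⊥ : Submodule B (LinearMap.ker φ)) ⊔ I • ⊤ = ⊤ := by
    rw [bot_sup_eq, eq_top_iff]
    intro x _
    have h1 := congrArg (quotTensorEquivQuotSMul (LinearMap.ker φ) I) (hzero (1 ⊗ₜ x))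
    rw [map_zero] at h1
    rw [← Submodule.Quotient.mk_eq_zero]
    simpa using h1
  have h2 := eq_top_of_sup_smul hI ⊥ hK
  rw [eq_bot_iff]
  intro x hx
  have : (⟨x, hx⟩ : LinearMap.ker φ) ∈ (⊥ : Submodule B (LinearMap.ker φ)) := by rw [h2]; trivial
  simpa using this

/-- the kernel of a base change of a surjection -/
theorem ker_baseChange_le {A F M : Type u} [CommRing A] [AddCommGroup F] [Module A F] [AddCommGroup M]
    [Module A M] (B : Type u) [CommRing B] [Algebra A B] (m : Ideal A) (φ : F →ₗ[A] M)
    (hs : Function.Surjective φ) (hker : LinearMap.ker φ ≤ m • ⊤) :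
    LinearMap.ker (φ.baseChange B) ≤ m.map (algebraMap A B) • ⊤ := by
  intro z hz
  have hz' : LinearMap.lTensor B φ z = 0 := hz
  obtain ⟨w, rfl⟩ := ((lTensor_exact B (LinearMap.exact_subtype_ker_map φ) hs) z).1 hz'
  clear hz hz'
  have key : ∀ (c : B), ∀ v ∈ m • (⊤ : Submodule A F),
      c ⊗ₜ[A] v ∈ m.map (algebraMap A B) • (⊤ : Submodule B (B ⊗[A] F)) := by
    intro c v hv
    refine Submodule.smul_induction_on hv (fun a ha v _ => ?_) (fun v w hv hw => ?_)
    · rw [TensorProduct.tmul_smul, ← algebraMap_smul B a (c ⊗ₜ[A] v)]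
      exact Submodule.smul_mem_smul (Ideal.mem_map_of_mem _ ha) Submodule.mem_top
    · rw [TensorProduct.tmul_add]; exact add_mem hv hw
  induction w using TensorProduct.induction_on with
  | zero => rw [map_zero]; exact zero_mem _
  | add a b ha hb => rw [map_add]; exact add_mem ha hb
  | tmul c r =>
    rw [LinearMap.lTensor_tmul]
    exact key c _ (hker r.2)

/-- **Flatness descends along an injective map** from a local ring with nilpotent maximal ideal. -/
theorem free_of_injective_family {A M : Type u} [CommRing A] [IsLocalRing A] [AddCommGroup M]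
    [Module A M] (hm : IsNilpotent (maximalIdeal A)) {ι' : Type*} (B : ι' → Type u)
    [∀ j, CommRing (B j)] [∀ j, Algebra A (B j)]
    (hinj : ∀ a : A, (∀ j, algebraMap A (B j) a = 0) → a = 0)
    (hflat : ∀ j, Module.Flat (B j) (B j ⊗[A] M)) : Module.Free A M := by
  classical
  let m := maximalIdeal A
  haveI : m.IsMaximal := maximalIdeal.isMaximal A
  letI : Field (A ⧸ m) := Ideal.Quotient.field m
  let b := Module.Basis.ofVectorSpace (A ⧸ m) (M ⧸ m • (⊤ : Submodule A M))
  choose lift' hlift using fun i => Submodule.mkQ_surjective (m • (⊤ : Submodule A M)) (b i)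
  let φ : (_ →₀ A) →ₗ[A] M := Finsupp.linearCombination A lift'
  have hmk : ∀ x, Submodule.mkQ (m • (⊤ : Submodule A M)) (φ x) =
      Finsupp.linearCombination (A ⧸ m) b (x.mapRange (Ideal.Quotient.mk m) (map_zero _)) := by
    intro x
    induction x using Finsupp.induction_linear with
    | zero => simp
    | add f g hf hg => rw [map_add, map_add, hf, hg, Finsupp.mapRange_add (map_add _), map_add]
    | single i a =>
      simp only [Finsupp.mapRange_single, φ, Finsupp.linearCombination_single, map_smul, hlift]
      rfl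
  have hsurj : Function.Surjective φ := by
    rw [← LinearMap.range_eq_top]
    refine eq_top_of_sup_smul hm _ (eq_top_iff.2 fun y _ => ?_)
    obtain ⟨c, hc⟩ : ∃ c, Finsupp.linearCombination (A ⧸ m) b c = Submodule.mkQ (m • (⊤ : Submodule A M)) y :=
      ⟨_, b.linearCombination_repr _⟩
    obtain ⟨x, rfl⟩ := Finsupp.mapRange_surjective (Ideal.Quotient.mk m) (map_zero _)
      Ideal.Quotient.mk_surjective c
    rw [← hmk] at hc
    have h1 : y - φ x ∈ m • (⊤ : Submodule A M) := (Submodule.Quotient.eq _).1 hc.symm
    rw [show y = φ x + (y - φ x) by abel]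
    exact Submodule.add_mem_sup ⟨x, rfl⟩ h1
  have hker : LinearMap.ker φ ≤ m • ⊤ := by
    intro x hx
    rw [LinearMap.mem_ker] at hx
    have h1 := hmk x
    rw [hx, map_zero, eq_comm] at h1
    have h2 := (show Function.Injective (Finsupp.linearCombination (A ⧸ m) b) from b.linearIndependent)
      (h1.trans (map_zero _).symm)
    rw [← x.sum_single]
    refine Submodule.finsuppSum_mem _ _ _ _ fun i _ => ?_
    rw [← mul_one (x i), ← Finsupp.smul_single']
    refine Submodule.smul_mem_smul ?_ Submodule.mem_top
    exact Ideal.Quotient.eq_zero_iff_mem.1 (by simpa using DFunLike.congr_fun h2 i)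
  have hbot : LinearMap.ker φ = ⊥ := by
    rw [eq_bot_iff]
    intro x hx
    rw [Submodule.mem_bot]
    ext i
    refine hinj (x i) fun j => ?_
    let Φ := φ.baseChange (B j)
    have hΦs : Function.Surjective Φ := LinearMap.lTensor_surjective (B j) hsurj
    have hmap : IsNilpotent (m.map (algebraMap A (B j))) := by
      obtain ⟨n, hn⟩ := hm
      exact ⟨n, by rw [← Ideal.map_pow, hn, Submodule.zero_eq_bot, Ideal.map_bot]; rfl⟩
    have hle : LinearMap.ker Φ ≤ m.map (algebraMap A (B j)) • ⊤ :=
      ker_baseChange_le (B j) m φ hsurj hker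
    have h0 := ker_eq_bot_of_flat _ hmap Φ hΦs hle
    have hx1 : (1 : B j) ⊗ₜ[A] x = 0 := by
      apply LinearMap.ker_eq_bot.1 h0
      rw [LinearMap.baseChange_tmul, LinearMap.mem_ker.1 hx, TensorProduct.tmul_zero, map_zero]
    have := congrArg (LinearMap.lTensor (B j) (Finsupp.lapply i : (_ →₀ A) →ₗ[A] A)) hx1
    rw [LinearMap.lTensor_tmul, map_zero] at this
    have h2 := congrArg (TensorProduct.rid A (B j)) this
    rw [TensorProduct.rid_tmul, map_zero, Algebra.smul_def, mul_one] at h2
    exact h2
  exact Module.Free.of_equiv (LinearEquiv.ofBijective φ ⟨LinearMap.ker_eq_bot.1 hbot, hsurj⟩)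

end Groth.Agent.FlatInjDescent
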