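import Groth.Agent.FlatInjDescent.Ring
import Groth.Agent.FinFibImage.BaseChange
import Mathlib.RingTheory.Localization.BaseChange
import Mathlib.RingTheory.Flat.Localization
import Mathlib.RingTheory.Flat.FaithfullyFlat.Algebra
import Mathlib.RingTheory.Noetherian.Nilpotent
import Mathlib.AlgebraicGeometry.Noetherian
import Mathlib.AlgebraicGeometry.Morphisms.SchemeTheoreticallyDominant
import Mathlib.AlgebraicGeometry.Stalk

/-!
# A morphism with injective functions and flat self product is flat over maximal points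
-/

universe u
open CategoryTheory CategoryTheory.Limits AlgebraicGeometry TensorProduct

namespace Groth.Agent.FlatInjDescent

/-- algebraic core -/
theorem flat_of_family {A R : Type u} [CommRing A] [CommRing R] [Algebra A R] [IsLocalRing R]
    (S : Submonoid A) [IsLocalization S R] (hm : IsNilpotent (IsLocalRing.maximalIdeal R))
    {ι' : Type*} [Finite ι'] (B : ι' → Type u) [∀ j, CommRing (B j)] [∀ j, Algebra A (B j)]
    (hinj : ∀ a : A, (∀ j, algebraMap A (B j) a = 0) → a = 0)
    (hflat : ∀ i j, Module.Flat (B j) (B j ⊗[A] B i)) (i₀ : ι')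
    (L : Type u) [CommRing L] [Algebra (B i₀) L] [Module.Flat (B i₀) L] [Algebra A L]
    [IsScalarTower A (B i₀) L] [Algebra R L] [IsScalarTower A R L] :
    Module.Flat R L := by
  classical
  cases nonempty_fintype ι'
  have hinj' : ∀ r : R, (∀ j, algebraMap R (R ⊗[A] B j) r = 0) → r = 0 := by
    intro r hr
    obtain ⟨a, s, rfl⟩ := IsLocalization.exists_mk'_eq S r
    have h0 : ∀ j, ∃ t : S, algebraMap A (B j) (t * a) = 0 := by
      intro j
      have h1 : algebraMap R (R ⊗[A] B j) (algebraMap A R a) = 0 := by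
        rw [← IsLocalization.mk'_spec R a s, map_mul, hr j, zero_mul]
      have h2 : algebraMap (B j) (B j ⊗[A] R) (algebraMap A (B j) a) = 0 := by
        have h3 := congrArg (Algebra.TensorProduct.comm A R (B j)) h1
        rw [map_zero, Algebra.TensorProduct.algebraMap_apply, Algebra.algebraMap_self, RingHom.id_apply,
          Algebra.TensorProduct.comm_tmul] at h3
        rw [← h3, Algebra.TensorProduct.algebraMap_apply, Algebra.algebraMap_self, RingHom.id_apply,
          Algebra.algebraMap_eq_smul_one, Algebra.algebraMap_eq_smul_one, TensorProduct.smul_tmul]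
      obtain ⟨⟨_, t, ht, rfl⟩, htj⟩ := (IsLocalization.map_eq_zero_iff
        (Algebra.algebraMapSubmonoid (B j) S) (B j ⊗[A] R) _).1 h2
      exact ⟨⟨t, ht⟩, by rw [map_mul]; exact htj⟩
    choose t ht using h0
    rw [IsLocalization.mk'_eq_zero_iff]
    refine ⟨∏ j, t j, hinj _ fun j => ?_⟩
    obtain ⟨c, hc⟩ := Finset.dvd_prod_of_mem t (Finset.mem_univ j)
    rw [hc, show ((t j * c : S) : A) * a = (c : A) * ((t j : A) * a) by push_cast; ring, map_mul, ht,
      mul_zero]
  have hfl : ∀ j, Module.Flat (R ⊗[A] B j) ((R ⊗[A] B j) ⊗[R] (R ⊗[A] B i₀)) := by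
    intro j
    letI : Algebra (B j) (R ⊗[A] B j) := Algebra.TensorProduct.rightAlgebra
    have : IsScalarTower A (B j) (R ⊗[A] B j) := IsScalarTower.of_algebraMap_eq fun a => by
      show _ = (1 : R) ⊗ₜ[A] algebraMap A (B j) a
      rw [Algebra.TensorProduct.algebraMap_apply, Algebra.algebraMap_eq_smul_one,
        Algebra.algebraMap_eq_smul_one, TensorProduct.smul_tmul]
    have := hflat i₀ j
    have : Module.Flat (R ⊗[A] B j) ((R ⊗[A] B j) ⊗[B j] (B j ⊗[A] B i₀)) := inferInstance
    have h1 : Module.Flat (R ⊗[A] B j) ((R ⊗[A] B j) ⊗[A] B i₀) :=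
      Module.Flat.of_linearEquiv
        (TensorProduct.AlgebraTensorModule.cancelBaseChange A (B j) (R ⊗[A] B j) (R ⊗[A] B j) (B i₀)).symm
    exact Module.Flat.of_linearEquiv
      (TensorProduct.AlgebraTensorModule.cancelBaseChange A R (R ⊗[A] B j) (R ⊗[A] B j) (B i₀))
  have := free_of_injective_family hm (fun j => R ⊗[A] B j) hinj' hfl
  have : Module.Flat A R := IsLocalization.flat R S
  have : Module.Flat A (R ⊗[A] B i₀) := Module.Flat.trans A R _
  have : Module.Flat A (B i₀ ⊗[A] R) :=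
    Module.Flat.of_linearEquiv (TensorProduct.comm A (B i₀) R)
  have hu : ∀ s : Algebra.algebraMapSubmonoid (B i₀) S, IsUnit (algebraMap (B i₀) L s) := by
    rintro ⟨_, s, hs, rfl⟩
    rw [← IsScalarTower.algebraMap_apply, IsScalarTower.algebraMap_apply A R L]
    exact (IsLocalization.map_units R ⟨s, hs⟩).map _
  letI : Algebra (B i₀ ⊗[A] R) L :=
    (IsLocalization.lift (M := Algebra.algebraMapSubmonoid (B i₀) S) hu).toAlgebra
  have : IsScalarTower (B i₀) (B i₀ ⊗[A] R) L := IsScalarTower.of_algebraMap_eq fun b =>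
    (IsLocalization.lift_eq hu b).symm
  have : IsScalarTower A (B i₀ ⊗[A] R) L := IsScalarTower.of_algebraMap_eq fun a => by
    rw [IsScalarTower.algebraMap_apply A (B i₀) L, IsScalarTower.algebraMap_apply A (B i₀) (B i₀ ⊗[A] R),
      ← IsScalarTower.algebraMap_apply (B i₀) (B i₀ ⊗[A] R) L]
  have : Module.Flat (B i₀ ⊗[A] R) L :=
    (Module.flat_iff_of_isLocalization (B i₀ ⊗[A] R) (Algebra.algebraMapSubmonoid (B i₀) S) L).2 ‹_›
  have : Module.Flat A L := Module.Flat.trans A (B i₀ ⊗[A] R) L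
  exact (Module.flat_iff_of_isLocalization R S L).2 this

set_option backward.isDefEq.respectTransparency false in
/-- the geometric form -/
theorem flat_stalkMap_of_maximal {G H : Scheme.{u}} (f : G ⟶ H) [QuasiCompact f] [IsLocallyNoetherian H]
    (hker : f.ker = ⊥) [Flat (pullback.fst f f)] (x : G) (hmax : ∀ z, z ⤳ f x → z = f x) :
    (f.stalkMap x).hom.Flat := by
  obtain ⟨V, hV, hxV, -⟩ := exists_isAffineOpen_mem_and_subset (X := H) (x := f x) (U := ⊤) trivial
  obtain ⟨U₀, hU₀, hxU₀, hU₀V⟩ := exists_isAffineOpen_mem_and_subset (X := G) (x := x) (U := f ⁻¹ᵁ V) hxV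
  have hcpt : IsCompact ((f ⁻¹ᵁ V : G.Opens) : Set G) := QuasiCompact.isCompact_preimage _ V.2 hV.isCompact
  obtain ⟨I, hI, e⟩ := isCompact_iff_finite_and_eq_biUnion_affineOpens.mp hcpt
  let J : Set G.affineOpens := insert ⟨U₀, hU₀⟩ I
  have : Finite J := (hI.insert _).to_subtype
  have hle : ∀ i : J, (i : G.Opens) ≤ f ⁻¹ᵁ V := by
    rintro ⟨i, hi⟩
    rcases hi with rfl | hi
    · exact hU₀V
    · rw [e]; exact le_biSup (fun i : G.affineOpens => (i : G.Opens)) hi
  let i₀ : J := ⟨⟨U₀, hU₀⟩, Set.mem_insert _ _⟩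
  let : ∀ i : J, Algebra Γ(H, V) Γ(G, (i : G.Opens)) := fun i => (f.appLE V i (hle i)).hom.toAlgebra
  have : IsNoetherianRing Γ(H, V) := IsLocallyNoetherian.component_noetherian ⟨V, hV⟩
  let := TopCat.Presheaf.algebra_section_stalk H.presheaf (⟨f x, hxV⟩ : V)
  have := hV.isLocalization_stalk ⟨f x, hxV⟩
  have : IsNoetherianRing (H.presheaf.stalk (f x)) :=
    IsLocalization.isNoetherianRing (hV.primeIdealOf ⟨f x, hxV⟩).asIdeal.primeCompl _ inferInstance
  have hm : IsNilpotent (IsLocalRing.maximalIdeal (H.presheaf.stalk (f x))) := by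
    have h1 : IsLocalRing.maximalIdeal (H.presheaf.stalk (f x)) ≤ nilradical _ := by
      rw [nilradical_eq_sInf]
      refine le_sInf fun q hq => ?_
      let q' : Spec (H.presheaf.stalk (f x)) := ⟨q, hq⟩
      have hq' : H.fromSpecStalk (f x) q' = H.fromSpecStalk (f x) (IsLocalRing.closedPoint _) := by
        rw [Scheme.fromSpecStalk_closedPoint]
        refine hmax _ ?_
        have : H.fromSpecStalk (f x) q' ∈ Set.range (H.fromSpecStalk (f x)) := ⟨q', rfl⟩
        rwa [Scheme.range_fromSpecStalk] at this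
      exact (congrArg PrimeSpectrum.asIdeal
        ((H.fromSpecStalk (f x)).isEmbedding.injective hq')).ge
    obtain ⟨n, hn⟩ := IsNoetherianRing.isNilpotent_nilradical (H.presheaf.stalk (f x))
    exact ⟨n, le_bot_iff.1 ((Ideal.pow_right_mono h1 n).trans hn.le)⟩
  have hinj : ∀ a : Γ(H, V), (∀ i : J, f.appLE V i (hle i) a = 0) → a = 0 := by
    intro a ha
    have h0 : f.app V a = 0 := by
      refine TopCat.Sheaf.eq_of_locally_eq' G.sheaf (fun i : J => (i : G.Opens)) _
        (fun i => homOfLE (hle i)) ?_ _ _ fun i => ?_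
      · intro y hy
        rw [e] at hy
        simp only [TopologicalSpace.Opens.mem_iSup] at hy
        obtain ⟨i, hi, hyi⟩ := hy
        exact TopologicalSpace.Opens.mem_iSup.2 ⟨⟨i, Set.mem_insert_of_mem _ hi⟩, hyi⟩
      · rw [map_zero]
        exact ha i
    have h2 : RingHom.ker (f.app V).hom = ⊥ := by
      have := Scheme.Hom.ker_apply f ⟨V, hV⟩
      rw [hker, Scheme.IdealSheafData.ideal_bot] at this
      exact this.symm
    have h3 : a ∈ RingHom.ker (f.app V).hom := h0
    rwa [h2, Ideal.mem_bot] at h3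
  have hflat : ∀ i j : J, Module.Flat Γ(G, (j : G.Opens))
      (Γ(G, (j : G.Opens)) ⊗[Γ(H, V)] Γ(G, (i : G.Opens))) := by
    intro i j
    let W : (pullback f f).Opens := pullback.fst f f ⁻¹ᵁ j ⊓ pullback.snd f f ⁻¹ᵁ i
    have hW : IsAffineOpen W := by
      have : IsAffine _ := hV
      have : IsAffine _ := i.1.2
      have : IsAffine _ := j.1.2
      exact .of_isIso (Scheme.Hom.isPullback_resLE (IsPullback.of_hasPullback f f) (hle i) (hle j)
        (UY := W) rfl).isoPullback.hom
    have HP := (isIso_pushoutSection_iff (IsPullback.of_hasPullback f f) (US := V) (UX := (j : G.Opens))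
      (UT := (i : G.Opens)) (UY := W) (hle i) (hle j) rfl).mp
      (isIso_pushoutSection_of_isAffineOpen _ _ _ _ hV i.1.2 j.1.2)
    have hfl := (pullback.fst f f).flat_appLE j.1.2 hW (by simp [W])
    have PY := CommRingCat.isPushout_tensorProduct Γ(H, V) Γ(G, (j : G.Opens)) Γ(G, (i : G.Opens))
    let d := PY.desc _ _ HP.w
    have : IsIso d := FinFibImage.isIso_desc_of_isPushout PY _ _ HP.w HP
    have h1 : (CommRingCat.ofHom (algebraMap Γ(G, (j : G.Opens))
        (Γ(G, (j : G.Opens)) ⊗[Γ(H, V)] Γ(G, (i : G.Opens))))).hom.Flat := by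
      have h2 := hfl.comp (RingHom.Flat.of_bijective (asIso d).commRingCatIsoToRingEquiv.symm.bijective)
      convert h2 using 1
      ext b
      change _ = (inv d) _
      rw [← PY.inl_desc _ _ HP.w]
      exact (CommRingCat.inv_hom_apply (asIso d) _).symm
    rw [CommRingCat.hom_ofHom, RingHom.flat_algebraMap_iff] at h1
    exact h1
  let : Algebra Γ(G, U₀) (G.presheaf.stalk x) := (G.presheaf.germ U₀ x hxU₀).hom.toAlgebra
  have : Module.Flat Γ(G, U₀) (G.presheaf.stalk x) := by
    have : IsLocalization.AtPrime (G.presheaf.stalk x) (hU₀.primeIdealOf ⟨x, hxU₀⟩).asIdeal :=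
      hU₀.isLocalization_stalk ⟨x, hxU₀⟩
    exact IsLocalization.flat _ (hU₀.primeIdealOf ⟨x, hxU₀⟩).asIdeal.primeCompl
  algebraize [(f.stalkMap x).hom]
  let : Algebra Γ(H, V) (G.presheaf.stalk x) :=
    (f.appLE V U₀ hU₀V ≫ G.presheaf.germ U₀ x hxU₀).hom.toAlgebra
  have : IsScalarTower Γ(H, V) Γ(G, (i₀ : G.Opens)) (G.presheaf.stalk x) :=
    IsScalarTower.of_algebraMap_eq fun a => rfl
  have : IsScalarTower Γ(H, V) (H.presheaf.stalk (f x)) (G.presheaf.stalk x) :=
    IsScalarTower.of_algebraMap_eq fun a => by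
      show (f.appLE V U₀ hU₀V ≫ G.presheaf.germ U₀ x hxU₀) a = f.stalkMap x (H.presheaf.germ V (f x) hxV a)
      rw [← CommRingCat.comp_apply, Scheme.Hom.germ_stalkMap, Scheme.Hom.appLE, Category.assoc,
        TopCat.Presheaf.germ_res]
  exact flat_of_family (hV.primeIdealOf ⟨f x, hxV⟩).asIdeal.primeCompl hm
    (fun i : J => Γ(G, (i : G.Opens))) hinj hflat i₀ (G.presheaf.stalk x)

end Groth.Agent.FlatInjDescent
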